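import Mathlib

/-!
Two-point stabilisers of doubly transitive groups, the lines they fix, and the
arithmetic used for the lower bound `2/n` on the proportion of derangements.
-/

set_option autoImplicit false

namespace Cfsg.Agent.DerangeTwo

open MulAction

variable (G : Type*) {Ω : Type*} [Group G] [MulAction G Ω]

/-- the stabiliser of two points -/
def pairStab (x y : Ω) : Subgroup G := stabilizer G x ⊓ stabilizer G y

/-- double transitivity -/
def TwoTrans (Ω : Type*) [MulAction G Ω] : Prop :=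
  ∀ a b c d : Ω, a ≠ b → c ≠ d → ∃ g : G, g • a = c ∧ g • b = d

/-- number of fixed points -/
noncomputable def nfix (Ω : Type*) [MulAction G Ω] (g : G) : ℕ := Nat.card (fixedBy Ω g)

/-- the set of points fixed by the stabiliser of two points -/
noncomputable def line [Fintype Ω] (x y : Ω) : Finset Ω :=
  haveI : DecidablePred fun z : Ω => ∀ g ∈ pairStab G x y, g • z = z := Classical.decPred _
  Finset.univ.filter fun z => ∀ g ∈ pairStab G x y, g • z = z

variable {G}

lemma mem_pairStab {x y : Ω} {g : G} : g ∈ pairStab G x y ↔ g • x = x ∧ g • y = y := by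
  simp [pairStab, MulAction.mem_stabilizer_iff]

lemma mem_pairStab_conj {x y : Ω} (g h : G) :
    g * h * g⁻¹ ∈ pairStab G (g • x) (g • y) ↔ h ∈ pairStab G x y := by
  simp [mem_pairStab, mul_smul]

lemma pairStab_card_smul (x y : Ω) (g : G) :
    Nat.card (pairStab G (g • x) (g • y)) = Nat.card (pairStab G x y) := by
  refine (Nat.card_congr ((MulAut.conj g).toEquiv.subtypeEquiv fun h => ?_)).symm
  exact (mem_pairStab_conj g h).symm

lemma pairStab_card_eq (h2 : TwoTrans G Ω) {x y u v : Ω} (hxy : x ≠ y) (huv : u ≠ v) :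
    Nat.card (pairStab G u v) = Nat.card (pairStab G x y) := by
  obtain ⟨g, h1, h3⟩ := h2 x y u v hxy huv
  rw [← h1, ← h3, pairStab_card_smul]

variable [Fintype Ω]

lemma mem_line {x y z : Ω} : z ∈ line G x y ↔ ∀ g ∈ pairStab G x y, g • z = z := by
  simp [line]

lemma left_mem_line (x y : Ω) : x ∈ line G x y := mem_line.2 fun _ hg => (mem_pairStab.1 hg).1

lemma right_mem_line (x y : Ω) : y ∈ line G x y := mem_line.2 fun _ hg => (mem_pairStab.1 hg).2

lemma smul_mem_line {x y z : Ω} (g : G) : g • z ∈ line G (g • x) (g • y) ↔ z ∈ line G x y := by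
  constructor
  · intro h
    refine mem_line.2 fun k hk => ?_
    have := mem_line.1 h _ ((mem_pairStab_conj g k).2 hk)
    simpa [mul_smul] using this
  · intro h
    refine mem_line.2 fun k hk => ?_
    have hk' : g⁻¹ * k * g ∈ pairStab G x y := by
      rw [← mem_pairStab_conj g]; simpa [mul_assoc] using hk
    have := mem_line.1 h _ hk'
    rw [mul_smul, mul_smul, inv_smul_eq_iff] at this
    exact this

lemma line_card_eq (h2 : TwoTrans G Ω) {x y u v : Ω} (hxy : x ≠ y) (huv : u ≠ v) :
    (line G u v).card = (line G x y).card := by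
  classical
  obtain ⟨g, h1, h3⟩ := h2 x y u v hxy huv
  rw [← h1, ← h3]
  symm
  refine Finset.card_bij (fun z _ => g • z) (fun z hz => (smul_mem_line g).2 hz)
    (fun a _ b _ h => smul_left_cancel g h) (fun b hb => ⟨g⁻¹ • b, ?_, smul_inv_smul g b⟩)
  rw [← smul_mem_line g, smul_inv_smul]; exact hb

variable [Finite G]

lemma pairStab_eq_of_mem_line (h2 : TwoTrans G Ω) {x y u v : Ω} (hxy : x ≠ y) (huv : u ≠ v)
    (hu : u ∈ line G x y) (hv : v ∈ line G x y) : pairStab G u v = pairStab G x y := by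
  refine (Subgroup.eq_of_le_of_card_ge (fun g hg => ?_) (pairStab_card_eq h2 hxy huv).le).symm
  exact mem_pairStab.2 ⟨mem_line.1 hu g hg, mem_line.1 hv g hg⟩

lemma line_eq_of_mem (h2 : TwoTrans G Ω) {x y u v : Ω} (hxy : x ≠ y) (huv : u ≠ v)
    (hu : u ∈ line G x y) (hv : v ∈ line G x y) : line G u v = line G x y := by
  ext z; simp [mem_line, pairStab_eq_of_mem_line h2 hxy huv hu hv]

/-- the fixed points of an element are closed under lines; hence a proper fixed point set `S`
satisfies `|S| (F - 1) < n`. -/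
lemma nfix_mul_lt [FaithfulSMul G Ω] (h2 : TwoTrans G Ω) {a b : Ω} (hab : a ≠ b) {h : G}
    (hh : h ≠ 1) : nfix G Ω h * ((line G a b).card - 1) < Fintype.card Ω := by
  classical
  obtain ⟨z, hz⟩ : ∃ z : Ω, h • z ≠ z := by
    by_contra hc
    push_neg at hc
    exact hh (eq_of_smul_eq_smul (α := Ω) fun x => by rw [hc x, one_smul])
  let S : Finset Ω := Finset.univ.filter fun x => h • x = x
  have hS : nfix G Ω h = S.card := by
    simp [nfix, S, Nat.card_eq_fintype_card, Fintype.card_subtype, MulAction.mem_fixedBy]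
  have hzS : ∀ x ∈ S, z ≠ x := fun x hx e => hz (e ▸ (Finset.mem_filter.1 hx).2)
  have hdisj : (S : Set Ω).PairwiseDisjoint fun x => (line G z x).erase z := by
    intro x hx y hy hxy
    simp only [Function.onFun, Finset.disjoint_left, Finset.mem_erase]
    rintro w ⟨hwz, hwx⟩ ⟨_, hwy⟩
    have e1 := line_eq_of_mem h2 (hzS x hx) (Ne.symm hwz) (left_mem_line z x) hwx
    have e2 := line_eq_of_mem h2 (hzS y hy) (Ne.symm hwz) (left_mem_line z y) hwy
    have hyl : y ∈ line G z x := by rw [← e1, e2]; exact right_mem_line z y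
    have e3 := line_eq_of_mem h2 (hzS x hx) hxy (right_mem_line z x) hyl
    have : z ∈ line G x y := by rw [e3]; exact left_mem_line z x
    exact hz (mem_line.1 this h (mem_pairStab.2
      ⟨(Finset.mem_filter.1 hx).2, (Finset.mem_filter.1 hy).2⟩))
  have hcard : (S.biUnion fun x => (line G z x).erase z).card =
      S.card * ((line G a b).card - 1) := by
    rw [Finset.card_biUnion hdisj, Finset.sum_congr rfl fun x hx => by
      rw [Finset.card_erase_of_mem (left_mem_line z x), line_card_eq h2 hab (hzS x hx)],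
      Finset.sum_const, smul_eq_mul]
  rw [hS, ← hcard]
  refine Finset.card_lt_univ_of_notMem (x := z) ?_
  simp

omit [Finite G] in
lemma sum_nfix_eq [Fintype G] :
    ∑ g : G, nfix G Ω g = ∑ z : Ω, Nat.card (stabilizer G z) := by
  classical
  simp only [nfix, Nat.card_eq_fintype_card, Fintype.card_subtype, Finset.card_filter,
    MulAction.mem_fixedBy, MulAction.mem_stabilizer_iff]
  exact Finset.sum_comm

/-- Engel form of Cauchy–Schwarz, in the shape needed here. -/
lemma sq_card_div_le {ι : Type*} (s : Finset ι) (f : ι → ℚ) (hf : ∀ i ∈ s, 0 < f i) :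
    (s.card : ℚ) ^ 2 / (∑ i ∈ s, f i) ≤ ∑ i ∈ s, 1 / f i := by
  simpa using Finset.sq_sum_div_le_sum_sq_div s (fun _ => (1 : ℚ)) hf

/-- the analytic heart: `∑ n / f ≥ 2k` from a bound on `∑ f`. -/
lemma two_mul_card_le_sum {H : Type*} [Fintype H] (e : H) (f : H → ℕ) (n : ℕ)
    (hpos : ∀ h, 1 ≤ f h) (he : f e = n) (hk : 2 ≤ Fintype.card H)
    (hbound : 2 * (∑ h, f h) ≤ n * Fintype.card H ∨
      ∃ F : ℕ, 2 * (∑ h, f h) ≤ (n + F) * Fintype.card H ∧ F * (2 * Fintype.card H - 1) ≤ n) :
    2 * (Fintype.card H : ℚ) ≤ ∑ h, (n : ℚ) / f h := by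
  classical
  set k := Fintype.card H with hk'
  have hp : ∀ h, (0 : ℚ) < f h := fun h => Nat.cast_pos.2 (hpos h)
  have hkq : (0 : ℚ) < k := by exact_mod_cast (by omega : 0 < k)
  have hn : (0 : ℚ) ≤ n := Nat.cast_nonneg n
  have hsum : ∀ s : Finset H, (n : ℚ) * ((s.card : ℚ) ^ 2 / (∑ h ∈ s, (f h : ℚ))) ≤
      ∑ h ∈ s, (n : ℚ) / f h := fun s => by
    refine (mul_le_mul_of_nonneg_left (sq_card_div_le s (fun h => (f h : ℚ)) fun h _ => hp h)
      hn).trans (le_of_eq ?_)
    rw [Finset.mul_sum]; simp [div_eq_mul_inv]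
  rcases hbound with hb | ⟨F, hb, hF⟩
  · have := hsum Finset.univ
    rw [Finset.card_univ, ← hk'] at this
    refine le_trans ?_ this
    have hb' : 2 * (∑ h, (f h : ℚ)) ≤ (n : ℚ) * k := by exact_mod_cast hb
    have hS : (0 : ℚ) < ∑ h, (f h : ℚ) := Finset.sum_pos (fun h _ => hp h) ⟨e, Finset.mem_univ e⟩
    rw [← mul_div_assoc, le_div_iff₀ hS]
    nlinarith
  · have h1 := hsum (Finset.univ.erase e)
    rw [Finset.card_erase_of_mem (Finset.mem_univ e), Finset.card_univ, ← hk',
      Nat.cast_sub (by omega : 1 ≤ k), Nat.cast_one] at h1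
    have hsplit : ∀ φ : H → ℚ, φ e + ∑ h ∈ Finset.univ.erase e, φ h = ∑ h, φ h :=
      fun φ => Finset.add_sum_erase _ _ (Finset.mem_univ e)
    set S' := ∑ h ∈ Finset.univ.erase e, (f h : ℚ) with hS'
    have hSn : (n : ℚ) + S' = ∑ h, (f h : ℚ) := by
      have := hsplit fun h => (f h : ℚ); simp only [he] at this; exact this
    have hn1 : (1 : ℚ) ≤ n := by exact_mod_cast he ▸ hpos e
    rw [← hsplit]
    simp only [he, div_self (show (n : ℚ) ≠ 0 by linarith)]
    have hne : (Finset.univ.erase e).Nonempty := by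
      rw [← Finset.card_pos, Finset.card_erase_of_mem (Finset.mem_univ e), Finset.card_univ]
      omega
    have hS'pos : 0 < S' := Finset.sum_pos (fun h _ => hp h) hne
    have hb' : 2 * ((n : ℚ) + S') ≤ ((n : ℚ) + F) * k := by rw [hSn]; exact_mod_cast hb
    have hF' : (F : ℚ) * (2 * k - 1) ≤ n := by
      have : ((F * (2 * k - 1) : ℕ) : ℚ) ≤ n := by exact_mod_cast hF
      rwa [Nat.cast_mul, Nat.cast_sub (by omega), Nat.cast_mul, Nat.cast_one] at this
    have key : (2 * (k : ℚ) - 1) * S' ≤ (n : ℚ) * ((k : ℚ) - 1) ^ 2 := by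
      have h2k : (0 : ℚ) ≤ 2 * k - 1 := by
        have : (2 : ℚ) ≤ k := by exact_mod_cast hk
        linarith
      have hS2 : 2 * S' ≤ ((n : ℚ) + F) * k - 2 * n := by linarith
      nlinarith [mul_le_mul_of_nonneg_left hS2 h2k, mul_le_mul_of_nonneg_left hF' hkq.le]
    have : (2 * (k : ℚ) - 1) ≤ (n : ℚ) * (((k : ℚ) - 1) ^ 2 / S') := by
      rw [← mul_div_assoc, le_div_iff₀ hS'pos]; exact key
    linarith

end Cfsg.Agent.DerangeTwo
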