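import Cfsg.Agent.DerangeTwo.Triple

/-!
The bound `∑_{h ∈ K} n / f(h) ≥ 2 |K|` for a nontrivial two-point stabiliser.
-/

set_option autoImplicit false

namespace Cfsg.Agent.DerangeTwo

open MulAction

variable {G Ω : Type*} [Group G] [MulAction G Ω] [Fintype Ω] [Finite G] [FaithfulSMul G Ω]

lemma sum_pair_bound (h2 : TwoTrans G Ω) (hn : 7 ≤ Fintype.card Ω) {a b : Ω} (hab : a ≠ b)
    (K : Subgroup G) (hK : K = pairStab G a b) [Fintype K] (hk : 2 ≤ Fintype.card K) :
    2 * (Fintype.card K : ℚ) ≤
      ∑ h : K, (Fintype.card Ω : ℚ) / nfix G Ω (h : G) := by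
  classical
  set n := Fintype.card Ω with hn'
  set k := Fintype.card K with hk'
  set L := line G a b with hL
  have memK : ∀ {g : G}, g ∈ K → g ∈ pairStab G a b := fun h => hK ▸ h
  let f : K → ℕ := fun h => nfix G Ω (h : G)
  have ha : a ∈ L := left_mem_line a b
  have hb : b ∈ L := right_mem_line a b
  have hLf : ∀ h : K, L.card ≤ f h := fun h => by
    have e : f h = (Finset.univ.filter fun x : Ω => (h : G) • x = x).card := by
      simp [f, nfix, Nat.card_eq_fintype_card, Fintype.card_subtype, MulAction.mem_fixedBy]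
    rw [e]
    refine Finset.card_le_card fun z hz => ?_
    simp [mem_line.1 hz h (memK h.2)]
  have hF2 : 2 ≤ L.card := Finset.one_lt_card.2 ⟨a, ha, b, hb, hab⟩
  have hpos : ∀ h : K, 1 ≤ f h := fun h => le_trans (by omega) (hLf h)
  have hone : f 1 = n := by simp [f, nfix, hn', Nat.card_eq_fintype_card]
  by_cases hF4 : 4 ≤ L.card
  · have hterm : ∀ h ∈ Finset.univ.erase (1 : K), (3 : ℚ) ≤ (n : ℚ) / f h := fun h hh => by
      have h1 : (h : G) ≠ 1 := fun e => Finset.ne_of_mem_erase hh (Subtype.ext e)
      have h3 := nfix_mul_lt h2 hab h1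
      rw [← hL] at h3
      have h4 : f h * 3 ≤ n := le_of_lt (lt_of_le_of_lt (Nat.mul_le_mul_left _ (by omega)) h3)
      rw [le_div_iff₀ (Nat.cast_pos.2 (hpos h))]
      calc (3 : ℚ) * f h = ((f h * 3 : ℕ) : ℚ) := by push_cast; ring
        _ ≤ n := Nat.cast_le.2 h4
    show 2 * (k : ℚ) ≤ ∑ h : K, (n : ℚ) / f h
    rw [← Finset.add_sum_erase _ _ (Finset.mem_univ (1 : K)), hone,
      div_self (Nat.cast_ne_zero.2 (by omega : n ≠ 0))]
    have := Finset.card_nsmul_le_sum _ _ _ hterm
    rw [Finset.card_erase_of_mem (Finset.mem_univ _), Finset.card_univ, ← hk', nsmul_eq_mul,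
      Nat.cast_sub (by omega : 1 ≤ k), Nat.cast_one] at this
    have : (2 : ℚ) ≤ k := by exact_mod_cast hk
    linarith
  -- stabilisers in `K`
  let c : Ω → ℕ := fun z => Nat.card ↥(K ⊓ stabilizer G z)
  have hkc : Nat.card K = k := Nat.card_eq_fintype_card
  have hstab : ∀ z, Nat.card (stabilizer K z) = c z := fun z =>
    Nat.card_congr
      { toFun := fun x => ⟨x.1.1, x.1.2, x.2⟩
        invFun := fun x => ⟨⟨x.1, x.2.1⟩, x.2.2⟩
        left_inv := fun x => rfl
        right_inv := fun x => rfl }
  have hkc' : Nat.card (pairStab G a b) = k := hK ▸ hkc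
  have hM : ∑ h : K, f h = ∑ z, c z := by
    rw [← Finset.sum_congr rfl fun z _ => hstab z]
    exact sum_nfix_eq
  have hcd : ∀ z, c z * Nat.card (orbit K z) = k := fun z => by
    rw [← hkc, ← hstab, ← Subgroup.card_mul_index (stabilizer K z), MulAction.index_stabilizer,
      Nat.card_coe_set_eq]
  have hcL : ∀ z ∈ L, c z = k := fun z hz => by
    rw [← hkc, ← hstab]
    exact Nat.card_congr
      { toFun := fun x => x.1
        invFun := fun x => ⟨x, mem_line.1 hz x (memK x.2)⟩
        left_inv := fun x => rfl
        right_inv := fun x => rfl }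
  have hd2 : ∀ z, z ∉ L → 2 ≤ Nat.card (orbit K z) := fun z hz => by
    by_contra h
    haveI : Nonempty (orbit K z) := ⟨⟨z, mem_orbit_self z⟩⟩
    have h1 : 0 < Nat.card (orbit K z) := Nat.card_pos
    have : Subsingleton (orbit K z) := (Nat.card_eq_one_iff_unique.1 (by omega)).1
    refine hz (mem_line.2 fun g hg => ?_)
    exact congrArg Subtype.val (Subsingleton.elim
      (⟨g • z, ⟨(⟨g, hK ▸ hg⟩ : K), rfl⟩⟩ : orbit K z) ⟨z, mem_orbit_self z⟩)
  let D : Ω → ℕ := fun z => k - 2 * c z
  have hD : ∀ z, z ∉ L → 2 * c z + D z = k := fun z hz => by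
    have := hcd z
    have : c z * 2 ≤ c z * Nat.card (orbit K z) := Nat.mul_le_mul_left _ (hd2 z hz)
    simp only [D]; omega
  have hcard : L.card + (Finset.univ \ L).card = n := by
    rw [add_comm, Finset.card_sdiff_add_card_eq_card (Finset.subset_univ L), Finset.card_univ]
  have h2M : 2 * (∑ h : K, f h) + ∑ z ∈ Finset.univ \ L, D z = (n + L.card) * k := by
    rw [hM, ← Finset.sum_sdiff (Finset.subset_univ L), Finset.sum_congr rfl hcL,
      Finset.sum_const, smul_eq_mul, mul_add, Finset.mul_sum, add_assoc,
      add_comm (2 * (L.card * k)), ← add_assoc, ← Finset.sum_add_distrib,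
      Finset.sum_congr rfl fun z hz => hD z (Finset.mem_sdiff.1 hz).2, Finset.sum_const,
      smul_eq_mul, ← hcard]
    ring
  -- deficit of an orbit
  let O : Ω → Finset Ω := fun z => (orbit K z).toFinset
  have memO : ∀ {z w}, w ∈ O z ↔ w ∈ orbit K z := fun {z w} => Set.mem_toFinset
  have hOcard : ∀ z, (O z).card = Nat.card (orbit K z) := fun z => by
    simp [O, Nat.card_eq_fintype_card, Set.toFinset_card]
  have hOsub : ∀ z, z ∉ L → O z ⊆ Finset.univ \ L := fun z hz w hw => by
    obtain ⟨g, rfl⟩ := memO.1 hw
    refine Finset.mem_sdiff.2 ⟨Finset.mem_univ _, fun h => hz ?_⟩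
    have h1 : (g : G) • ((g : G) • z) = (g : G) • z := mem_line.1 h g (memK g.2)
    have h3 : (g : G) • z = z := smul_left_cancel _ h1
    show z ∈ L
    rw [← h3]; exact h
  have hDorb : ∀ z, z ∉ L → ∀ w ∈ O z, D w = D z := fun z hz w hw => by
    have h1 : orbit K w = orbit K z := orbit_eq_iff.2 (memO.1 hw)
    have h3 := hcd w
    rw [h1, ← hcd z] at h3
    have : 0 < Nat.card (orbit K z) := lt_of_lt_of_le (by omega) (hd2 z hz)
    simp only [D, Nat.eq_of_mul_eq_mul_right this h3]
  have hDsum : ∀ z, z ∉ L → ∑ w ∈ O z, D w + 2 * k = Nat.card (orbit K z) * k := by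
    intro z hz
    rw [Finset.sum_congr rfl (hDorb z hz), Finset.sum_const, smul_eq_mul, hOcard]
    calc Nat.card (orbit K z) * D z + 2 * k
        = Nat.card (orbit K z) * D z + 2 * (c z * Nat.card (orbit K z)) := by rw [hcd]
      _ = Nat.card (orbit K z) * (2 * c z + D z) := by ring
      _ = _ := by rw [hD z hz]
  have hbig : ∀ z, z ∉ L → 4 ≤ Nat.card (orbit K z) →
      2 * k ≤ ∑ w ∈ Finset.univ \ L, D w := by
    intro z hz h4
    have := Finset.sum_le_sum_of_subset (f := D) (hOsub z hz)
    have := hDsum z hz
    have : 4 * k ≤ Nat.card (orbit K z) * k := Nat.mul_le_mul_right _ h4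
    omega
  have htwo : ∀ z z', z ∉ L → z' ∉ L → Nat.card (orbit K z) = 3 → Nat.card (orbit K z') = 3 →
      z' ∉ O z → 2 * k ≤ ∑ w ∈ Finset.univ \ L, D w := by
    intro z z' hz hz' e e' hne
    have hdisj : Disjoint (O z) (O z') := Finset.disjoint_left.2 fun w h1 h3 => hne (memO.2 (by
      rw [← orbit_eq_iff.2 (memO.1 h1), orbit_eq_iff.2 (memO.1 h3)]
      exact mem_orbit_self z'))
    have h0 := Finset.sum_le_sum_of_subset (f := D) (Finset.union_subset (hOsub z hz) (hOsub z' hz'))
    rw [Finset.sum_union hdisj] at h0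
    have h1 := hDsum z hz
    have h3 := hDsum z' hz'
    rw [e] at h1; rw [e'] at h3
    omega
  have horb2 : ∀ z, Nat.card (orbit K z) = 2 → 2 * c z = k := fun z e => by
    have := hcd z; rw [e] at this; omega
  refine (?_ : 2 * (k : ℚ) ≤ ∑ h : K, (n : ℚ) / f h)
  have fin : ∀ F : ℕ, 2 * (∑ h : K, f h) ≤ (n + F) * k → F * (2 * k - 1) ≤ n →
      2 * (k : ℚ) ≤ ∑ h : K, (n : ℚ) / f h := fun F h1 h3 =>
    two_mul_card_le_sum (1 : K) f n hpos hone hk (Or.inr ⟨F, h1, h3⟩)
  have finA : L.card * k ≤ ∑ w ∈ Finset.univ \ L, D w →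
      2 * (k : ℚ) ≤ ∑ h : K, (n : ℚ) / f h := fun h1 =>
    two_mul_card_le_sum (1 : K) f n hpos hone hk (Or.inl (by rw [add_mul] at h2M; rw [← hk', hM] at *; omega))
  rcases (show L.card = 2 ∨ L.card = 3 by omega) with hF | hF
  · -- two fixed points
    by_cases hall : ∀ z, z ∉ L → 2 * c z = k
    · have hD0 : ∑ z ∈ Finset.univ \ L, D z = 0 := Finset.sum_eq_zero fun z hz => by
        simp only [D, hall z (Finset.mem_sdiff.1 hz).2]; omega
      rw [hD0, add_zero, hF] at h2M
      have heven : Even n := by
        have hB := MulAction.sum_card_fixedBy_eq_card_orbits_mul_card_group K Ω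
        have hf : ∀ h : K, f h = Fintype.card (fixedBy Ω h) := fun h => by
          simp only [f, nfix]; exact Nat.card_eq_fintype_card
        rw [Finset.sum_congr rfl fun h _ => hf h, hB, ← hk', ← mul_assoc] at h2M
        have := Nat.eq_of_mul_eq_mul_right (by omega) h2M
        exact ⟨Fintype.card (Quotient (orbitRel K Ω)) - 1, by omega⟩
      have hLab : ∀ z, (∀ g ∈ K, g • z = z) → z = a ∨ z = b := fun z hz => by
        replace hz : ∀ g ∈ pairStab G a b, g • z = z := fun g hg => hz g (hK ▸ hg)
        have hsub : ({a, b} : Finset Ω) ⊆ L := by simp [Finset.insert_subset_iff, ha, hb]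
        have : z ∈ L := mem_line.2 hz
        rw [← Finset.eq_of_subset_of_card_le hsub (by rw [Finset.card_pair hab, hF])] at this
        simpa using this
      have hzL : ∀ z, z ≠ a → z ≠ b → z ∉ L := fun z h1 h3 h => by
        rcases hLab z (fun g hg => mem_line.1 h g (memK hg)) with e | e
        · exact h1 e
        · exact h3 e
      have hk2 := card_pairStab_eq_two h2 hab (fun z hz => hLab z fun g hg => hz g (memK hg))
        (fun z h1 h3 => by rw [hkc', ← hK]; exact hall z (hzL z h1 h3)) heven (by omega)
      rw [hkc'] at hk2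
      exact fin 2 h2M.le (by omega)
    · push_neg at hall
      obtain ⟨z, hz, hzc⟩ := hall
      refine finA (hF ▸ ?_)
      by_cases h4 : 4 ≤ Nat.card (orbit K z)
      · exact hbig z hz h4
      have hd3 : Nat.card (orbit K z) = 3 := by
        have := hd2 z hz
        have : Nat.card (orbit K z) ≠ 2 := fun e => hzc (horb2 z e)
        omega
      by_contra hlt
      -- every other point outside `L` lies in an orbit of length 2
      have hother : ∀ w, w ∉ L → w ∉ O z → Nat.card (orbit K w) = 2 := by
        intro w hw hwO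
        have := hd2 w hw
        by_contra hw2
        rcases (show Nat.card (orbit K w) = 3 ∨ 4 ≤ Nat.card (orbit K w) by omega) with e | e
        · exact hlt (htwo z w hz hw hd3 e hwO)
        · exact hlt (hbig w hw e)
      have h3k : 3 ∣ k := ⟨c z, by rw [← hcd z, hd3]; ring⟩
      haveI : Fact (Nat.Prime 3) := ⟨Nat.prime_three⟩
      obtain ⟨h, hh⟩ := exists_prime_orderOf_dvd_card (G := K) 3 h3k
      have hh3 : (h : G) * h * h = 1 := by
        have := congrArg Subtype.val (pow_orderOf_eq_one h)
        rw [hh] at this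
        simpa [pow_succ] using this
      have hfix : ∀ w, w ∉ O z → (h : G) • w = w := by
        intro w hw
        by_cases hwL : w ∈ L
        · exact mem_line.1 hwL h (memK h.2)
        have e := smul_smul_eq_of_index_two (K := K)
          (by rw [hkc]; exact horb2 w (hother w hwL hw)) h.2
        calc (h : G) • w = (h : G) • ((h : G) • (h : G) • w) := by rw [e]
          _ = w := by rw [← mul_smul, ← mul_smul, hh3, one_smul]
      let σ : Equiv.Perm Ω := MulAction.toPermHom G Ω h
      have hσo : orderOf σ = 3 := by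
        rw [orderOf_injective (MulAction.toPermHom G Ω) MulAction.toPerm_injective,
          Subgroup.orderOf_coe, hh]
      have hσs : σ.support ⊆ O z := fun w hw => by
        by_contra hwO
        exact (Equiv.Perm.mem_support.1 hw) (hfix w hwO)
      have hcyc : σ.IsThreeCycle := by
        rw [← card_support_eq_three_iff]
        have h5 := Finset.card_le_card hσs
        rw [hOcard, hd3] at h5
        have h6 : σ.support.card ≠ 0 := fun e => by
          rw [Finset.card_eq_zero, Equiv.Perm.support_eq_empty_iff] at e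
          rw [e, orderOf_one] at hσo
          omega
        have h7 : σ.support.card ≠ 1 := Equiv.Perm.card_support_ne_one σ
        have h8 : σ.support.card ≠ 2 := fun e => by
          rw [(Equiv.Perm.card_support_eq_two.1 e).orderOf] at hσo
          omega
        omega
      let H : Subgroup (Equiv.Perm Ω) := (MulAction.toPermHom G Ω).range
      have hprim : IsPreprimitive H Ω := by
        refine isPreprimitive_of_is_two_pretransitive (is_two_pretransitive_iff.2 ?_)
        intro p q r s hpq hrs
        obtain ⟨g, g1, g2⟩ := h2 p q r s hpq hrs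
        exact ⟨⟨MulAction.toPermHom G Ω g, g, rfl⟩, g1, g2⟩
      have hA := Equiv.Perm.alternatingGroup_le_of_isPreprimitive_of_isThreeCycle_mem hprim hcyc
        ⟨(h : G), rfl⟩
      -- some point outside `L ∪ O z`, and a third one
      obtain ⟨w, hw⟩ : ∃ w, w ∉ L ∪ O z := by
        by_contra hc
        push_neg at hc
        have h1 := Finset.card_le_card (fun x _ => hc x : (Finset.univ : Finset Ω) ⊆ L ∪ O z)
        have := Finset.card_union_le L (O z)
        rw [Finset.card_univ] at h1
        rw [hOcard, hd3, hF] at this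
        omega
      simp only [Finset.mem_union, not_or] at hw
      obtain ⟨e, he⟩ : ∃ e, e ∉ L ∪ {z, w} := by
        by_contra hc
        push_neg at hc
        have h1 := Finset.card_le_card (fun x _ => hc x : (Finset.univ : Finset Ω) ⊆ L ∪ {z, w})
        have := Finset.card_union_le L {z, w}
        have := Finset.card_le_two (a := z) (b := w)
        rw [Finset.card_univ] at h1
        omega
      simp only [Finset.mem_union, Finset.mem_insert, Finset.mem_singleton, not_or] at he
      have hzw : z ≠ w := fun e' => hw.2 (e' ▸ memO.2 (mem_orbit_self z))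
      have hc3 : Equiv.Perm.IsThreeCycle (Equiv.swap z w * Equiv.swap z e) :=
        Equiv.Perm.isThreeCycle_swap_mul_swap_same hzw (Ne.symm he.2.1) (Ne.symm he.2.2)
      obtain ⟨g, hg⟩ := hA hc3.mem_alternatingGroup
      have hgz : ∀ x, g • x = (Equiv.swap z w * Equiv.swap z e) x := fun x => by
        rw [← hg]; rfl
      have hgK : g ∈ K := by
        have hfx : ∀ x ∈ L, g • x = x := fun x hx => by
          have n1 : x ≠ z := fun e' => hz (e' ▸ hx)
          have n2 : x ≠ w := fun e' => hw.1 (e' ▸ hx)
          have n3 : x ≠ e := fun e' => he.1 (e' ▸ hx)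
          rw [hgz, Equiv.Perm.mul_apply, Equiv.swap_apply_of_ne_of_ne n1 n3,
            Equiv.swap_apply_of_ne_of_ne n1 n2]
        exact hK.symm ▸ mem_pairStab.2 ⟨hfx a ha, hfx b hb⟩
      have hge : g • e = w := by
        rw [hgz, Equiv.Perm.mul_apply, Equiv.swap_apply_right, Equiv.swap_apply_left]
      have hgz' : g • z = e := by
        rw [hgz, Equiv.Perm.mul_apply, Equiv.swap_apply_left,
          Equiv.swap_apply_of_ne_of_ne he.2.1 he.2.2]
      refine hw.2 (memO.2 ⟨⟨g * g, mul_mem hgK hgK⟩, ?_⟩)
      show (g * g) • z = w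
      rw [mul_smul, hgz', hge]
  · -- three fixed points
    by_cases hkn : n + 1 ≤ 2 * k
    · have hterm : ∀ h ∈ Finset.univ.erase (1 : K), 2 * (n : ℚ) / ((n : ℚ) - 1) ≤ (n : ℚ) / f h := by
        intro h hh
        have h1 : (h : G) ≠ 1 := fun e => Finset.ne_of_mem_erase hh (Subtype.ext e)
        have h3 := nfix_mul_lt h2 hab h1
        rw [← hL, hF] at h3
        have h4 : 2 * (f h : ℚ) ≤ (n : ℚ) - 1 := by
          have : ((2 * f h + 1 : ℕ) : ℚ) ≤ n := Nat.cast_le.2 (by simp only [f]; omega)
          push_cast at this; linarith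
        have h5 : (0 : ℚ) < f h := Nat.cast_pos.2 (hpos h)
        rw [div_le_div_iff₀ (by linarith) h5]
        have := mul_le_mul_of_nonneg_left h4 (Nat.cast_nonneg (α := ℚ) n)
        linarith
      rw [← Finset.add_sum_erase _ _ (Finset.mem_univ (1 : K)), hone,
        div_self (Nat.cast_ne_zero.2 (by omega : n ≠ 0))]
      have := Finset.card_nsmul_le_sum _ _ _ hterm
      rw [Finset.card_erase_of_mem (Finset.mem_univ _), Finset.card_univ, ← hk', nsmul_eq_mul,
        Nat.cast_sub (by omega : 1 ≤ k), Nat.cast_one] at this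
      have hn1 : (0 : ℚ) < (n : ℚ) - 1 := by
        have : (7 : ℚ) ≤ n := by exact_mod_cast hn
        linarith
      have hkn' : (n : ℚ) + 1 ≤ 2 * k := by exact_mod_cast hkn
      have key : (2 * (k : ℚ) - 1) ≤ ((k : ℚ) - 1) * (2 * (n : ℚ) / ((n : ℚ) - 1)) := by
        rw [mul_div_assoc', le_div_iff₀ hn1]; linarith
      linarith
    by_cases hall : ∀ z, z ∉ L → 2 * c z = k
    · refine fin 3 (by rw [hF] at h2M; omega) ?_
      have := degree_ge_of_triple h2 hab hF
        (fun z hz => by rw [hkc', ← hK]; exact hall z hz) (by rw [hkc']; exact hk)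
      rwa [hkc'] at this
    · push_neg at hall
      obtain ⟨z, hz, hzc⟩ := hall
      refine fin 1 ?_ (by omega)
      have hbound : 2 * k ≤ ∑ w ∈ Finset.univ \ L, D w := by
        by_cases h4 : 4 ≤ Nat.card (orbit K z)
        · exact hbig z hz h4
        have hd3 : Nat.card (orbit K z) = 3 := by
          have := hd2 z hz
          have : Nat.card (orbit K z) ≠ 2 := fun e => hzc (horb2 z e)
          omega
        have hFall : ∀ x y : Ω, x ≠ y → (line G x y).card = 3 := fun x y h => by
          rw [line_card_eq h2 hab h, ← hL, hF]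
        have haz : a ≠ z := fun e => hz (e ▸ ha)
        obtain ⟨ht, ht1, ht2⟩ := third_spec hFall haz
        set z' := third G a z with hz'def
        have hzl : z ∈ line G a z' := mem_line_third h2 hFall haz
        have hz'L : z' ∉ L := fun h => hz (by
          rw [hL, ← line_eq_of_mem h2 hab (Ne.symm ht1) ha h]; exact hzl)
        have hiff : ∀ g : K, (g : G) • z' = z' ↔ (g : G) • z = z := fun g => by
          constructor
          · exact fun e => mem_line.1 hzl g (mem_pairStab.2 ⟨mem_line.1 ha g (memK g.2), e⟩)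
          · exact fun e => mem_line.1 ht g (mem_pairStab.2 ⟨mem_line.1 ha g (memK g.2), e⟩)
        have hceq : stabilizer K z' = stabilizer K z := by
          ext g; exact hiff g
        have hd' : Nat.card (orbit K z') = 3 := by
          have e1 := hcd z'
          rw [← hstab, hceq, hstab, ← hcd z] at e1
          rw [Nat.eq_of_mul_eq_mul_left (Nat.pos_of_ne_zero fun e0 => by
            have := hcd z; rw [e0, zero_mul] at this; omega) e1, hd3]
        refine htwo z z' hz hz'L hd3 hd' fun hmem => ?_
        -- `w ↦ third a w` would be a fixed point free involution on three points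
        have hmaps : ∀ w ∈ O z, third G a w ∈ O z := by
          intro w hw
          obtain ⟨g, hg⟩ := memO.1 hw
          obtain ⟨g', hg'⟩ := memO.1 hmem
          refine memO.2 ⟨g * g', ?_⟩
          have haw : a ≠ w := fun e =>
            (Finset.mem_sdiff.1 (hOsub z hz hw)).2 (e ▸ ha)
          refine eq_third hFall haw ?_ ?_ ?_
          · have := (smul_mem_line (g : G)).2 ht
            rw [mem_line.1 ha g (memK g.2), show (g : G) • z = w from hg] at this
            show ((g * g' : K) : G) • z ∈ line G a w
            rw [Subgroup.coe_mul, mul_smul, show (g' : G) • z = z' from hg']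
            exact this
          · show ((g * g' : K) : G) • z ≠ a
            rw [Subgroup.coe_mul, mul_smul, show (g' : G) • z = z' from hg']
            exact fun e => ht1 (smul_left_cancel (g : G) (e.trans (mem_line.1 ha g (memK g.2)).symm))
          · show ((g * g' : K) : G) • z ≠ w
            rw [Subgroup.coe_mul, mul_smul, show (g' : G) • z = z' from hg',
              ← show (g : G) • z = w from hg]
            exact fun e => ht2 (smul_left_cancel (g : G) e)
        have hne : ∀ w ∈ O z, a ≠ w := fun w hw e =>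
          (Finset.mem_sdiff.1 (hOsub z hz hw)).2 (e ▸ ha)
        have hev : ∑ _w ∈ O z, (1 : ZMod 2) = 0 :=
          Finset.sum_involution (fun w _ => third G a w) (fun _ _ => by decide)
            (fun w hw _ e => (third_spec hFall (hne w hw)).2.2 e) hmaps
            (fun w hw => third_third h2 hFall (hne w hw))
        rw [Finset.sum_const, nsmul_one, hOcard, hd3] at hev
        exact absurd hev (by decide)
      rw [hF, add_mul] at h2M
      rw [add_mul]
      omega

end Cfsg.Agent.DerangeTwo
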