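import Cfsg.Agent.DerangeTwo.Basic

/-!
If a two-point stabiliser fixes only the two points and has all its other orbits of length 2,
then it has order 2.
-/

set_option autoImplicit false

namespace Cfsg.Agent.DerangeTwo

open MulAction

variable {G Ω : Type*} [Group G] [MulAction G Ω]

/-- elements of `K` moving `z` all move it to the same place, if the orbit has length 2 -/
lemma smul_eq_of_index_two {K : Subgroup G} [Finite G] {z : Ω}
    (hz : 2 * Nat.card ↥(K ⊓ stabilizer G z) = Nat.card K) {g h : G} (hg : g ∈ K) (hh : h ∈ K)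
    (hgz : g • z ≠ z) (hhz : h • z ≠ z) : g • z = h • z := by
  have hidx : (stabilizer K z).index = 2 := by
    have hc : Nat.card (stabilizer K z) = Nat.card ↥(K ⊓ stabilizer G z) :=
      Nat.card_congr
        { toFun := fun x => ⟨x.1.1, x.1.2, x.2⟩
          invFun := fun x => ⟨⟨x.1, x.2.1⟩, x.2.2⟩
          left_inv := fun x => rfl
          right_inv := fun x => rfl }
    have h1 := (stabilizer K z).card_mul_index
    have hpos : 0 < Nat.card (stabilizer K z) := Nat.card_pos
    rw [← hz, ← hc, mul_comm 2] at h1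
    exact Nat.eq_of_mul_eq_mul_left hpos h1
  have hm : (⟨h, hh⟩ : K)⁻¹ * ⟨g, hg⟩ ∈ stabilizer K z := by
    rw [Subgroup.mul_mem_iff_of_index_two hidx, inv_mem_iff]
    exact ⟨fun e => absurd e hhz, fun e => absurd e hgz⟩
  have : h⁻¹ • (g • z) = z := by rw [← mul_smul]; exact hm
  exact inv_smul_eq_iff.1 this

/-- such elements square to the identity on the orbit -/
lemma smul_smul_eq_of_index_two {K : Subgroup G} [Finite G] {z : Ω}
    (hz : 2 * Nat.card ↥(K ⊓ stabilizer G z) = Nat.card K) {g : G} (hg : g ∈ K) :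
    g • g • z = z := by
  by_cases h : g • z = z
  · rw [h, h]
  · by_contra h'
    rw [← mul_smul] at h'
    have := smul_eq_of_index_two hz (mul_mem hg hg) hg h' h
    rw [mul_smul] at this
    exact h (smul_left_cancel g this)

variable [Fintype Ω] [Finite G] [FaithfulSMul G Ω]

lemma card_pairStab_eq_two (h2 : TwoTrans G Ω) {a b : Ω} (hab : a ≠ b)
    (hF : ∀ z, (∀ g ∈ pairStab G a b, g • z = z) → z = a ∨ z = b)
    (horb : ∀ z, z ≠ a → z ≠ b →
      2 * Nat.card ↥(pairStab G a b ⊓ stabilizer G z) = Nat.card (pairStab G a b))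
    (heven : Even (Fintype.card Ω)) (h4 : 3 ≤ Fintype.card Ω) :
    Nat.card (pairStab G a b) = 2 := by
  classical
  have hsq : ∀ h ∈ pairStab G a b, h * h = 1 := by
    intro h hh
    refine eq_of_smul_eq_smul (α := Ω) fun z => ?_
    rw [mul_smul, one_smul]
    by_cases hza : z = a
    · subst hza; rw [(mem_pairStab.1 hh).1, (mem_pairStab.1 hh).1]
    by_cases hzb : z = b
    · subst hzb; rw [(mem_pairStab.1 hh).2, (mem_pairStab.1 hh).2]
    exact smul_smul_eq_of_index_two (horb z hza hzb) hh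
  let H := stabilizer G a
  let K : Subgroup H := stabilizer H b
  have hKmem : ∀ k : H, k ∈ K ↔ (k : G) ∈ pairStab G a b := fun k => by
    rw [mem_pairStab]; exact ⟨fun e => ⟨k.2, e⟩, fun e => e.2⟩
  have hcardK : Nat.card K = Nat.card (pairStab G a b) :=
    Nat.card_congr
      { toFun := fun x => ⟨x.1.1, (hKmem x.1).1 x.2⟩
        invFun := fun x => ⟨⟨x.1, (mem_pairStab.1 x.2).1⟩, (mem_pairStab.1 x.2).2⟩
        left_inv := fun x => rfl
        right_inv := fun x => rfl }
  have hKsq : ∀ k ∈ K, k * k = 1 := fun k hk => Subtype.ext (hsq _ ((hKmem k).1 hk))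
  have hcomm : ∀ k ∈ K, ∀ l ∈ K, k * l = l * k := by
    intro k hk l hl
    have e := hKsq _ (K.mul_mem hk hl)
    have ek : k⁻¹ = k := inv_eq_of_mul_eq_one_right (hKsq k hk)
    have el : l⁻¹ = l := inv_eq_of_mul_eq_one_right (hKsq l hl)
    have := inv_eq_of_mul_eq_one_right e
    rw [mul_inv_rev, ek, el] at this
    exact this.symm
  have hp : IsPGroup 2 K := fun g => ⟨1, by rw [pow_one, pow_two]; exact Subtype.ext (hKsq _ g.2)⟩
  -- the point stabiliser is transitive on the other points
  have horbit : ∀ z, z ≠ a → z ∈ orbit H b := fun z hz => by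
    obtain ⟨g, g1, g2⟩ := h2 a b a z hab (Ne.symm hz)
    exact ⟨⟨g, g1⟩, g2⟩
  have hidx : K.index = Fintype.card Ω - 1 := by
    rw [MulAction.index_stabilizer]
    have : orbit H b = {a}ᶜ := by
      ext z
      simp only [Set.mem_compl_iff, Set.mem_singleton_iff]
      refine ⟨?_, horbit z⟩
      rintro ⟨g, rfl⟩ e
      exact hab (smul_left_cancel (g : G) ((g.2 : (g : G) • a = a).trans e.symm))
    rw [this, Set.ncard_compl, Set.ncard_singleton, Nat.card_eq_fintype_card]
  haveI : Fact (Nat.Prime 2) := ⟨Nat.prime_two⟩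
  have hodd : Odd (Fintype.card Ω - 1) := by
    obtain ⟨m, hm⟩ := heven; exact ⟨m - 1, by omega⟩
  let P : Sylow 2 H := hp.toSylow (by rw [hidx]; exact hodd.not_two_dvd_nat)
  have hP : Subgroup.normalizer ((P : Subgroup H) : Set H) ≤
      Subgroup.centralizer ((P : Subgroup H) : Set H) := by
    intro g hg
    have hgb : ∀ k ∈ pairStab G a b, k • ((g : G) • b) = (g : G) • b := by
      intro k hk
      have hk' : (⟨k, (mem_pairStab.1 hk).1⟩ : H) ∈ K := (hKmem _).2 hk
      have h3 := (Subgroup.mem_normalizer_iff''.1 hg ⟨k, (mem_pairStab.1 hk).1⟩).1 hk'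
      have h4 : ((g : G)⁻¹ * k * (g : G)) • b = b := (mem_pairStab.1 ((hKmem _).1 h3)).2
      rw [mul_smul, mul_smul, inv_smul_eq_iff] at h4
      exact h4
    have hgK : g ∈ K := by
      rcases hF _ hgb with e | e
      · exact absurd (smul_left_cancel (g : G) (e.trans (g.2 : (g : G) • a = a).symm)) (Ne.symm hab)
      · exact e
    exact Subgroup.mem_centralizer_iff.2 fun k hk => hcomm k hk g hgK
  let U : Subgroup H := (MonoidHom.transferSylow P hP).ker
  have hU : Subgroup.IsComplement' U K := MonoidHom.ker_transferSylow_isComplement' P hP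
  haveI hUn : U.Normal := MonoidHom.normal_ker _
  have hUK : ∀ x, x ∈ U → x ∈ K → x = 1 := fun x hx hx' =>
    Subgroup.mem_bot.1 (hU.disjoint.le_bot ⟨hx, hx'⟩)
  have hUcard : Nat.card U = Fintype.card Ω - 1 := by rw [← hidx, hU.index_eq_card]
  have hUodd : Odd (Nat.card U) := hUcard ▸ hodd
  -- fixing a point of the regular orbit is commuting with its label
  have hfix : ∀ u ∈ U, ∀ k ∈ K, (k * u = u * k ↔ k • (u • b) = u • b) := by
    intro u hu k hk
    constructor
    · intro e; rw [← mul_smul, e, mul_smul, show k • b = b from hk]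
    · intro e
      have h1 : u⁻¹ * k * u ∈ K := by
        show (u⁻¹ * k * u) • b = b
        rw [mul_smul, mul_smul, e, inv_smul_smul]
      have h3 : u⁻¹ * k * u * k⁻¹ = 1 := hUK _ (by
        have := U.mul_mem (U.inv_mem hu) (hUn.conj_mem u hu k)
        simpa [mul_assoc] using this) (K.mul_mem h1 (K.inv_mem hk))
      have h4 := congrArg (fun x => u * x * k) h3
      simpa [mul_assoc] using h4
  have hne : ∀ u ∈ U, u ≠ 1 → (u : G) • b ≠ a ∧ (u : G) • b ≠ b := by
    intro u hu hu1
    refine ⟨fun e => hab (smul_left_cancel (u : G) ((u.2 : (u : G) • a = a).trans e.symm)),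
      fun e => hu1 (hUK u hu e)⟩
  have hcent : ∀ u ∈ U, (∀ k ∈ K, k * u = u * k) → u = 1 := by
    intro u hu hc
    by_contra hu1
    have : ∀ g ∈ pairStab G a b, g • ((u : G) • b) = (u : G) • b := fun g hg => by
      have hk : (⟨g, (mem_pairStab.1 hg).1⟩ : H) ∈ K := (hKmem _).2 hg
      exact (hfix u hu _ hk).1 (hc _ hk)
    rcases hF _ this with e | e
    · exact (hne u hu hu1).1 e
    · exact (hne u hu hu1).2 e
  -- an element of `K` centralises or inverts each element of `U`
  have hdich : ∀ u ∈ U, ∀ k ∈ K, k * u = u * k ∨ k * u * k⁻¹ = u⁻¹ := by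
    intro u hu k hk
    by_cases hku : k * u = u * k
    · exact Or.inl hku
    right
    have hu1 : u ≠ 1 := fun e => hku (by rw [e, one_mul, mul_one])
    have horb' := horb _ (hne u hu hu1).1 (hne u hu hu1).2
    let W : Set H := {w | w ∈ U ∧ ∀ l ∈ K, l * u = u * l → l * w = w * l}
    have hWfix : ∀ w ∈ W, k * (k * w * k⁻¹) * k⁻¹ = w := fun w _ => by
      have ek : k⁻¹ = k := inv_eq_of_mul_eq_one_right (hKsq k hk)
      rw [ek, show k * (k * w * k) * k = (k * k) * w * (k * k) by group, hKsq k hk]; group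
    have hmaps : Set.MapsTo (fun w => w⁻¹ * (k * w * k⁻¹)) W W := by
      rintro w ⟨hw, hwc⟩
      refine ⟨U.mul_mem (U.inv_mem hw) (hUn.conj_mem w hw k), fun l hl hlu => ?_⟩
      have c1 : Commute l w := hwc l hl hlu
      have c2 : Commute l k := hcomm l hl k hk
      exact (c1.inv_right.mul_right ((c2.mul_right c1).mul_right c2.inv_right))
    have hinj : Set.InjOn (fun w => w⁻¹ * (k * w * k⁻¹)) W := by
      rintro w1 ⟨hw1, hc1⟩ w2 ⟨hw2, hc2⟩ e
      simp only at e
      have hx : w2 * w1⁻¹ = 1 := by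
        refine hcent _ (U.mul_mem hw2 (U.inv_mem hw1)) fun l hl => ?_
        by_cases hlu : l * u = u * l
        · exact (show Commute l w2 from hc2 l hl hlu).mul_right
            (show Commute l w1 from hc1 l hl hlu).inv_right
        · have hkx : Commute k (w2 * w1⁻¹) := by
            show k * (w2 * w1⁻¹) = w2 * w1⁻¹ * k
            calc k * (w2 * w1⁻¹) = w2 * (w2⁻¹ * (k * w2 * k⁻¹)) * k * w1⁻¹ := by group
              _ = w2 * (w1⁻¹ * (k * w1 * k⁻¹)) * k * w1⁻¹ := by rw [e]
              _ = w2 * w1⁻¹ * k := by group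
          have heq : (k : G) • ((u : G) • b) = (l : G) • ((u : G) • b) :=
            smul_eq_of_index_two horb' ((hKmem k).1 hk) ((hKmem l).1 hl)
              (fun e' => hku ((hfix u hu k hk).2 e')) (fun e' => hlu ((hfix u hu l hl).2 e'))
          have hlk : (l⁻¹ * k) • (u • b) = u • b := by
            rw [mul_smul, inv_smul_eq_iff]; exact heq
          have hlk' : (l⁻¹ * k) * u = u * (l⁻¹ * k) :=
            (hfix u hu _ (K.mul_mem (K.inv_mem hl) hk)).2 hlk
          have c3 : Commute (l⁻¹ * k) (w2 * w1⁻¹) :=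
            (show Commute (l⁻¹ * k) w2 from hc2 _ (K.mul_mem (K.inv_mem hl) hk) hlk').mul_right
              (show Commute (l⁻¹ * k) w1 from
                hc1 _ (K.mul_mem (K.inv_mem hl) hk) hlk').inv_right
          have : Commute (k * (l⁻¹ * k)⁻¹) (w2 * w1⁻¹) := hkx.mul_left c3.inv_left
          rw [show k * (l⁻¹ * k)⁻¹ = l by group] at this
          exact this
      exact (mul_inv_eq_one.1 hx).symm
    obtain ⟨⟨w, hw⟩, e⟩ := Finite.injective_iff_surjective.1 (hmaps.restrict_inj.2 hinj)
      ⟨u, hu, fun l _ h => h⟩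
    replace e := congrArg Subtype.val e
    rw [Set.MapsTo.val_restrict_apply] at e
    simp only at e
    rw [← e]
    calc k * (w⁻¹ * (k * w * k⁻¹)) * k⁻¹
        = (k * w * k⁻¹)⁻¹ * (k * (k * w * k⁻¹) * k⁻¹) := by group
      _ = (k * w * k⁻¹)⁻¹ * w := by rw [hWfix w hw]
      _ = _ := by group
  have hodd' : ∀ u ∈ U, u * u = 1 → u = 1 := by
    intro u hu h
    have h1 : orderOf u ∣ 2 := orderOf_dvd_of_pow_eq_one (by rw [pow_two, h])
    have h3 : orderOf u ∣ Nat.card U := by
      have := orderOf_dvd_natCard (⟨u, hu⟩ : U)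
      rwa [← Subgroup.orderOf_coe] at this
    rcases (Nat.dvd_prime Nat.prime_two).1 h1 with e | e
    · exact orderOf_eq_one_iff.1 e
    · exact absurd (e ▸ h3) hUodd.not_two_dvd_nat
  -- all the centralisers coincide
  have hsame : ∀ u ∈ U, u ≠ 1 → ∀ v ∈ U, v ≠ 1 → ∀ k ∈ K, k * u = u * k → k * v = v * k := by
    intro u hu hu1 v hv hv1 k hk hku
    rcases hdich v hv k hk with e | e
    · exact e
    exfalso
    have hkuv : k * (u * v) * k⁻¹ = u * v⁻¹ := by
      rw [show k * (u * v) * k⁻¹ = (k * u * k⁻¹) * (k * v * k⁻¹) by group, hku, e]; group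
    rcases hdich _ (U.mul_mem hu hv) k hk with e' | e'
    · rw [e', show u * v * k * k⁻¹ = u * v by group] at hkuv
      refine hv1 (hodd' v hv ?_)
      have h5 : v = v⁻¹ := mul_left_cancel hkuv
      exact mul_eq_one_iff_eq_inv.2 h5
    · rw [e'] at hkuv
      have h5 : v * u * v⁻¹ = u⁻¹ := by
        have e6 : v * (v⁻¹ * u⁻¹) = v * (u * v⁻¹) := by rw [← hkuv, mul_inv_rev]
        rw [← mul_assoc, mul_inv_cancel, one_mul] at e6
        rw [e6, mul_assoc]
      have h6 : Commute (v * v) u := by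
        show v * v * u = u * (v * v)
        have h7 : v * v * u * (v * v)⁻¹ = u := by
          rw [show v * v * u * (v * v)⁻¹ = v * (v * u * v⁻¹) * v⁻¹ by group, h5,
            show v * u⁻¹ * v⁻¹ = (v * u * v⁻¹)⁻¹ by group, h5, inv_inv]
        conv_rhs => rw [← h7]
        group
      obtain ⟨m, hm⟩ : Odd (orderOf v) := by
        have : orderOf v ∣ Nat.card U := by
          have := orderOf_dvd_natCard (⟨v, hv⟩ : U)
          rwa [← Subgroup.orderOf_coe] at this
        exact hUodd.of_dvd_nat this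
      have hv' : v = (v * v) ^ (m + 1) := by
        rw [← pow_two, ← pow_mul, show 2 * (m + 1) = orderOf v + 1 by omega, pow_succ,
          pow_orderOf_eq_one, one_mul]
      have h8 : Commute v u := hv' ▸ h6.pow_left _
      refine hu1 (hodd' u hu ?_)
      rw [h8.eq, mul_assoc, mul_inv_cancel, mul_one] at h5
      exact mul_eq_one_iff_eq_inv.2 h5
  obtain ⟨u, hu, hu1⟩ : ∃ u ∈ U, u ≠ 1 := by
    haveI : Nontrivial U := Finite.one_lt_card_iff_nontrivial.1 (by omega)
    obtain ⟨u, hu1⟩ := exists_ne (1 : U)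
    exact ⟨u, u.2, fun e => hu1 (Subtype.ext e)⟩
  -- the centraliser of `u` in `K` is trivial
  have htriv : pairStab G a b ⊓ stabilizer G ((u : G) • b) = ⊥ := by
    rw [eq_bot_iff]
    rintro g ⟨hg, hgu⟩
    have hgH : g • a = a := (mem_pairStab.1 hg).1
    let k : H := ⟨g, hgH⟩
    have hk : k ∈ K := (hKmem k).2 hg
    have hku : k * u = u * k := (hfix u hu k hk).2 hgu
    refine Subgroup.mem_bot.2 (eq_of_smul_eq_smul (α := Ω) fun z => ?_)
    rw [one_smul]
    by_cases hza : z = a
    · rw [hza, hgH]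
    by_cases hzb : z = b
    · rw [hzb, (mem_pairStab.1 hg).2]
    obtain ⟨x, hx⟩ := horbit z hza
    obtain ⟨v, hv, l, hl, rfl⟩ : ∃ v ∈ U, ∃ l ∈ K, v * l = x := by
      obtain ⟨⟨v, l⟩, hvl⟩ := hU.2 x
      exact ⟨v, v.2, l, l.2, hvl⟩
    have hxz : v • b = z := by
      rw [← hx]; show v • b = (v * l) • b
      rw [mul_smul, show l • b = b from hl]
    have hv1 : v ≠ 1 := fun e => hzb (by rw [← hxz, e, one_smul])
    have := (hfix v hv k hk).1 (hsame u hu hu1 v hv hv1 k hk hku)
    rw [hxz] at this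
    exact this
  have := horb _ (hne u hu hu1).1 (hne u hu hu1).2
  rw [htriv, Subgroup.card_bot] at this
  omega

end Cfsg.Agent.DerangeTwo
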