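import Cfsg.Agent.DerangeTwo.Pairs

/-!
Doubly transitive groups whose two-point stabiliser `K` fixes exactly three points and has all
its other orbits of length 2 have degree at least `3 (2 |K| - 1)`.
-/

set_option autoImplicit false

namespace Cfsg.Agent.DerangeTwo

open MulAction

variable {G Ω : Type*} [Group G] [MulAction G Ω] [Fintype Ω]

open Classical in
/-- the third point on the line through two points -/
noncomputable def third (G : Type*) [Group G] [MulAction G Ω] (x y : Ω) : Ω :=
  if h : ∃ z, z ∈ line G x y ∧ z ≠ x ∧ z ≠ y then h.choose else x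

section

variable [Finite G] (h2 : TwoTrans G Ω) (hF : ∀ x y : Ω, x ≠ y → (line G x y).card = 3)
include hF

omit [Finite G] in
lemma third_spec {x y : Ω} (hxy : x ≠ y) :
    third G x y ∈ line G x y ∧ third G x y ≠ x ∧ third G x y ≠ y := by
  classical
  have h : ∃ z, z ∈ line G x y ∧ z ≠ x ∧ z ≠ y := by
    by_contra hc
    push_neg at hc
    have : line G x y ⊆ {x, y} := fun z hz => by
      by_cases h : z = x
      · simp [h]
      · simp [hc z hz h]
    have h3 := (Finset.card_le_card this).trans Finset.card_le_two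
    rw [hF x y hxy] at h3
    omega
  rw [third, dif_pos h]
  exact h.choose_spec

omit [Finite G] in
lemma eq_third {x y z : Ω} (hxy : x ≠ y) (hz : z ∈ line G x y) (h1 : z ≠ x) (h3 : z ≠ y) :
    z = third G x y := by
  classical
  obtain ⟨ht, ht1, ht2⟩ := third_spec hF hxy
  by_contra hne
  have hsub : ({x, y, z, third G x y} : Finset Ω) ⊆ line G x y := by
    simp [Finset.insert_subset_iff, left_mem_line, right_mem_line, hz, ht]
  have h4 : ({x, y, z, third G x y} : Finset Ω).card = 4 := by
    simp [hxy, Ne.symm h1, Ne.symm h3, hne, Ne.symm ht1, Ne.symm ht2]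
  have := Finset.card_le_card hsub
  rw [h4, hF x y hxy] at this
  omega

omit [Finite G] in
lemma mem_line_cases {x y z : Ω} (hxy : x ≠ y) (hz : z ∈ line G x y) :
    z = x ∨ z = y ∨ z = third G x y := by
  by_cases h1 : z = x
  · exact Or.inl h1
  by_cases h3 : z = y
  · exact Or.inr (Or.inl h3)
  exact Or.inr (Or.inr (eq_third hF hxy hz h1 h3))

include h2

lemma mem_line_third {x y : Ω} (hxy : x ≠ y) : y ∈ line G x (third G x y) := by
  obtain ⟨ht, ht1, ht2⟩ := third_spec hF hxy
  rw [line_eq_of_mem h2 hxy (Ne.symm ht1) (left_mem_line x y) ht]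
  exact right_mem_line x y

lemma third_third {x y : Ω} (hxy : x ≠ y) : third G x (third G x y) = y := by
  obtain ⟨ht, ht1, ht2⟩ := third_spec hF hxy
  exact (eq_third hF (Ne.symm ht1) (mem_line_third h2 hF hxy) (Ne.symm hxy) (Ne.symm ht2)).symm

end

variable [Finite G] [FaithfulSMul G Ω]

/-- the subgroup fixing `x` and the line through `x` and `y` -/
noncomputable def lineStab (h2 : TwoTrans G Ω) {x y : Ω} (hxy : x ≠ y) : Subgroup G where
  carrier := {g | g • x = x ∧ g • y ∈ line G x y}
  one_mem' := ⟨one_smul _ _, by rw [one_smul]; exact right_mem_line x y⟩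
  mul_mem' := by
    rintro g h ⟨g1, g2⟩ ⟨h1, h3⟩
    refine ⟨by rw [mul_smul, h1, g1], ?_⟩
    have hne : g • y ≠ x := fun e => hxy (smul_left_cancel g (g1.trans e.symm))
    have h4 := (smul_mem_line g).2 h3
    rw [g1, line_eq_of_mem h2 hxy hne.symm (left_mem_line x y) g2] at h4
    rw [mul_smul]; exact h4
  inv_mem' := by
    rintro g ⟨g1, g2⟩
    refine ⟨by rw [inv_smul_eq_iff, g1], ?_⟩
    have hne : g • y ≠ x := fun e => hxy (smul_left_cancel g (g1.trans e.symm))
    rw [← smul_mem_line g, smul_inv_smul, g1,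
      line_eq_of_mem h2 hxy hne.symm (left_mem_line x y) g2]
    exact right_mem_line x y

omit [FaithfulSMul G Ω] in
lemma mem_lineStab (h2 : TwoTrans G Ω) {x y : Ω} (hxy : x ≠ y) {g : G} :
    g ∈ lineStab h2 hxy ↔ g • x = x ∧ g • y ∈ line G x y := Iff.rfl

omit [FaithfulSMul G Ω] in
lemma pairStab_le_lineStab (h2 : TwoTrans G Ω) {x y : Ω} (hxy : x ≠ y) :
    pairStab G x y ≤ lineStab h2 hxy := fun g hg => by
  rw [mem_lineStab, (mem_pairStab.1 hg).2]
  exact ⟨(mem_pairStab.1 hg).1, right_mem_line x y⟩

omit [FaithfulSMul G Ω] in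
lemma card_lineStab (h2 : TwoTrans G Ω) (hF : ∀ x y : Ω, x ≠ y → (line G x y).card = 3)
    {x y : Ω} (hxy : x ≠ y) :
    Nat.card (lineStab h2 hxy) = 2 * Nat.card (pairStab G x y) := by
  classical
  set T := lineStab h2 hxy with hT
  have h1 := Subgroup.card_mul_index (stabilizer T y)
  rw [MulAction.index_stabilizer] at h1
  obtain ⟨ht, ht1, ht2⟩ := third_spec hF hxy
  have ho : orbit T y = ({y, third G x y} : Set Ω) := by
    ext z
    constructor
    · rintro ⟨⟨g, g1, g2⟩, rfl⟩
      rcases mem_line_cases hF hxy g2 with e | e | e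
      · exact absurd (smul_left_cancel g (g1.trans e.symm)) hxy
      · exact Or.inl e
      · exact Or.inr e
    · rintro (rfl | rfl)
      · exact mem_orbit_self _
      · obtain ⟨g, g1, g2⟩ := h2 x y x (third G x y) hxy (Ne.symm ht1)
        exact ⟨⟨g, g1, by rw [g2]; exact ht⟩, g2⟩
  have hc : Nat.card (stabilizer T y) = Nat.card (pairStab G x y) :=
    Nat.card_congr
      { toFun := fun g => ⟨g.1.1, mem_pairStab.2 ⟨g.1.2.1, g.2⟩⟩
        invFun := fun g => ⟨⟨g.1, pairStab_le_lineStab h2 hxy g.2⟩, (mem_pairStab.1 g.2).2⟩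
        left_inv := fun g => rfl
        right_inv := fun g => rfl }
  rw [ho, Set.ncard_pair (Ne.symm ht2), hc] at h1
  rw [← h1]; ring

lemma degree_ge_of_triple (h2 : TwoTrans G Ω) {a b : Ω} (hab : a ≠ b)
    (hF3 : (line G a b).card = 3)
    (horb : ∀ z, z ∉ line G a b →
      2 * Nat.card ↥(pairStab G a b ⊓ stabilizer G z) = Nat.card (pairStab G a b))
    (hk : 2 ≤ Nat.card (pairStab G a b)) :
    3 * (2 * Nat.card (pairStab G a b) - 1) ≤ Fintype.card Ω := by
  classical
  by_contra hlt
  have hF : ∀ x y : Ω, x ≠ y → (line G x y).card = 3 := fun x y h => by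
    rw [line_card_eq h2 hab h, hF3]
  haveI : Fintype (pairStab G a b) := Fintype.ofFinite _
  set L := line G a b with hL
  set k := Nat.card (pairStab G a b) with hkdef
  have hkF : Fintype.card (pairStab G a b) = k := by rw [hkdef, Nat.card_eq_fintype_card]
  -- fixing sets
  let S : Ω → Finset (pairStab G a b) := fun z => Finset.univ.filter fun h => (h : G) • z = z
  have memS : ∀ {z : Ω} {h : pairStab G a b}, h ∈ S z ↔ (h : G) • z = z := fun {z h} => by
    simp [S]
  have hSL : ∀ z, S z = Finset.univ ↔ z ∈ L := fun z => by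
    rw [mem_line, Finset.eq_univ_iff_forall]
    simp only [memS, Subtype.forall]
  have hScard : ∀ z, z ∉ L → 2 * (S z).card = k := fun z hz => by
    rw [← horb z hz]
    congr 1
    rw [← Nat.card_eq_finsetCard]
    exact Nat.card_congr
      { toFun := fun x => ⟨x.1.1, x.1.2, memS.1 x.2⟩
        invFun := fun x => ⟨⟨x.1, x.2.1⟩, memS.2 x.2.2⟩
        left_inv := fun x => rfl
        right_inv := fun x => rfl }
  have hLfix : ∀ z ∈ L, ∀ g ∈ pairStab G a b, g • z = z := fun z hz g hg => mem_line.1 hz g hg
  have mvLine : ∀ {z x y : Ω} {g : G}, g • x = x → g • y = y → z ∈ line G x y → g • z = z :=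
    fun h1 h3 hz => mem_line.1 hz _ (mem_pairStab.2 ⟨h1, h3⟩)
  -- third points with a point of `L`
  have hthL : ∀ l ∈ L, ∀ z, z ∉ L → third G l z ∉ L ∧ S (third G l z) = S z := by
    intro l hl z hz
    have hlz : l ≠ z := fun e => hz (e ▸ hl)
    obtain ⟨ht, ht1, ht2⟩ := third_spec hF hlz
    refine ⟨fun h => hz ?_, ?_⟩
    · rw [hL, ← line_eq_of_mem h2 hab (Ne.symm ht1) hl h]
      exact mem_line_third h2 hF hlz
    · ext h
      rw [memS, memS]
      exact ⟨fun e => mvLine (hLfix l hl h h.2) e (mem_line_third h2 hF hlz),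
        fun e => mvLine (hLfix l hl h h.2) e ht⟩
  let op : Finset (pairStab G a b) → Finset (pairStab G a b) → Finset (pairStab G a b) :=
    fun A B => Finset.univ.filter fun h => (h ∈ A ↔ h ∈ B)
  have memop : ∀ {A B : Finset (pairStab G a b)} {h}, h ∈ op A B ↔ (h ∈ A ↔ h ∈ B) :=
    fun {A B h} => by simp [op]
  have op_op : ∀ A B, op A (op A B) = B := fun A B => by
    ext h; simp only [memop]; tauto
  have op_comm : ∀ A B, op A B = op B A := fun A B => by
    ext h; simp only [memop]; tauto
  have op_univ : ∀ A, op Finset.univ A = A := fun A => by ext h; simp [memop]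
  have op_self : ∀ A, op A A = Finset.univ := fun A => by ext h; simp [memop]
  -- third points of two points with different fixing sets
  have hth : ∀ z w, z ∉ L → w ∉ L → S z ≠ S w → z ≠ w ∧ third G z w ∉ L ∧
      S (third G z w) = op (S z) (S w) := by
    intro z w hz hw hne
    have hzw : z ≠ w := fun e => hne (by rw [e])
    obtain ⟨ht, ht1, ht2⟩ := third_spec hF hzw
    have hwl : w ∈ line G z (third G z w) := mem_line_third h2 hF hzw
    have hzl : z ∈ line G w (third G z w) := by
      rw [line_eq_of_mem h2 hzw (Ne.symm ht2) (right_mem_line z w) ht]; exact left_mem_line z w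
    set u := third G z w with hu
    obtain ⟨h1, h1z, h1w⟩ : ∃ h : pairStab G a b, (h : G) • z = z ∧ (h : G) • w ≠ w := by
      by_contra hc
      push_neg at hc
      refine hne (Finset.eq_of_subset_of_card_le (fun h hh => memS.2 (hc h (memS.1 hh))) ?_)
      have := hScard z hz; have := hScard w hw; omega
    have h1u : (h1 : G) • u ≠ u := fun e => h1w (mvLine h1z e hwl)
    have huL : u ∉ L := fun hh => h1u (hLfix u hh h1 h1.2)
    refine ⟨hzw, huL, ?_⟩
    ext h
    simp only [memop, memS]
    constructor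
    · intro e
      exact ⟨fun e' => mvLine e' e hwl, fun e' => mvLine e' e hzl⟩
    · intro e
      by_cases e' : (h : G) • z = z
      · exact mvLine e' (e.1 e') ht
      have ew : (h : G) • w ≠ w := fun x => e' (e.2 x)
      have h3z : ((h : G) * h1) • z ≠ z := by rw [mul_smul, h1z]; exact e'
      have h3w : ((h : G) * h1) • w = w := by
        rw [mul_smul, smul_eq_of_index_two (horb w hw) h1.2 h.2 h1w ew]
        exact smul_smul_eq_of_index_two (horb w hw) h.2
      have h3u : ((h : G) * h1) • u ≠ u := fun x => h3z (mvLine h3w x hzl)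
      by_contra hhu
      have e1 := smul_eq_of_index_two (horb u huL) (mul_mem h.2 h1.2) h1.2 h3u h1u
      have e2 := smul_eq_of_index_two (horb u huL) h1.2 h.2 h1u hhu
      rw [mul_smul, e2, smul_smul_eq_of_index_two (horb u huL) h.2] at e1
      exact hhu e1.symm
  -- the classes
  let C : Finset (pairStab G a b) → Finset Ω := fun A => Finset.univ.filter fun z => S z = A
  have memC : ∀ {A z}, z ∈ C A ↔ S z = A := fun {A z} => by simp [C]
  have hCle : ∀ z w, z ∉ L → w ∉ L → S z ≠ S w →
      (C (S w)).card ≤ (C (op (S z) (S w))).card := by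
    intro z w hz hw hne
    refine Finset.card_le_card_of_injOn (fun v => third G z v) (fun v hv => ?_) ?_
    · have hv' := memC.1 hv
      have hvL : v ∉ L := fun h => hw ((hSL w).1 (by rw [← hv', (hSL v).2 h]))
      refine memC.2 ?_
      rw [(hth z v hz hvL (by rw [hv']; exact hne)).2.2, hv']
    · intro v hv v' hv' e
      have key : ∀ {v}, v ∈ C (S w) → third G z (third G z v) = v := fun {v} hv => by
        have hv' := memC.1 hv
        exact third_third h2 hF (fun e => hne (by rw [← hv', e]))
      simp only at e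
      rw [← key hv, ← key hv', e]
  have hCop : ∀ z w, z ∉ L → w ∉ L → S z ≠ S w →
      (C (S w)).card = (C (op (S z) (S w))).card := by
    intro z w hz hw hne
    refine le_antisymm (hCle z w hz hw hne) ?_
    obtain ⟨_, huL, hSu⟩ := hth z w hz hw hne
    have hne' : S z ≠ S (third G z w) := by
      intro e
      apply hw
      rw [← hSL, ← op_op (S z) (S w), ← hSu, ← e, op_self]
    have := hCle z (third G z w) hz huL hne'
    rwa [hSu, op_op] at this
  have hCeq : ∀ z w, z ∉ L → w ∉ L → (C (S z)).card = (C (S w)).card := by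
    intro z w hz hw
    by_cases hne : S z = S w
    · rw [hne]
    · rw [hCop z w hz hw hne, hCop w z hw hz (Ne.symm hne), op_comm]
  -- the number of classes is the order of the stabiliser
  set Φ := (Finset.univ : Finset Ω).image S with hΦ
  have huniv : (Finset.univ : Finset (pairStab G a b)) ∈ Φ :=
    Finset.mem_image.2 ⟨a, Finset.mem_univ _, (hSL a).2 (left_mem_line a b)⟩
  have hclosed : ∀ A ∈ Φ, ∀ B ∈ Φ, op A B ∈ Φ := by
    intro A hA B hB
    obtain ⟨z, -, rfl⟩ := Finset.mem_image.1 hA
    obtain ⟨w, -, rfl⟩ := Finset.mem_image.1 hB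
    by_cases hz : z ∈ L
    · rw [(hSL z).2 hz, op_univ]; exact hB
    by_cases hw : w ∈ L
    · rw [(hSL w).2 hw, op_comm, op_univ]; exact hA
    by_cases hne : S z = S w
    · rw [hne, op_self]; exact huniv
    rw [← (hth z w hz hw hne).2.2]
    exact Finset.mem_image.2 ⟨_, Finset.mem_univ _, rfl⟩
  have hN : Φ.card = k := by
    have hA : ∀ h : pairStab G a b,
        2 * (Φ.filter fun A => h ∉ A).card = if h = 1 then 0 else Φ.card := by
      intro h
      by_cases h1 : h = 1
      · rw [if_pos h1, Finset.filter_false_of_mem fun A hA => ?_]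
        · simp
        · obtain ⟨z, -, rfl⟩ := Finset.mem_image.1 hA
          rw [not_not, h1, memS]; simp
      rw [if_neg h1]
      obtain ⟨z0, hz0⟩ : ∃ z : Ω, (h : G) • z ≠ z := by
        by_contra hc
        push_neg at hc
        exact h1 (Subtype.ext (eq_of_smul_eq_smul (α := Ω) fun x => by rw [hc x]; simp))
      have hA0 : S z0 ∈ Φ := Finset.mem_image.2 ⟨z0, Finset.mem_univ _, rfl⟩
      have hh0 : h ∉ S z0 := fun e => hz0 (memS.1 e)
      have : (Φ.filter fun A => h ∉ A).card = (Φ.filter fun A => h ∈ A).card := by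
        refine Finset.card_nbij' (fun A => op (S z0) A) (fun A => op (S z0) A) ?_ ?_ ?_ ?_
        · intro A hA
          simp only [Finset.coe_filter, Set.mem_setOf_eq] at hA ⊢
          exact ⟨hclosed _ hA0 _ hA.1, memop.2 (iff_of_false hh0 hA.2)⟩
        · intro A hA
          simp only [Finset.coe_filter, Set.mem_setOf_eq] at hA ⊢
          exact ⟨hclosed _ hA0 _ hA.1, fun e => hh0 ((memop.1 e).2 hA.2)⟩
        · exact fun A _ => op_op _ _
        · exact fun A _ => op_op _ _
      have hsum := Finset.card_filter_add_card_filter_not (s := Φ) fun A => h ∈ A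
      omega
    have hB : ∀ A ∈ Φ, 2 * (Finset.univ.filter fun h => h ∉ A).card =
        if A = Finset.univ then 0 else k := by
      intro A hA
      obtain ⟨z, -, rfl⟩ := Finset.mem_image.1 hA
      by_cases hu : S z = Finset.univ
      · rw [if_pos hu, hu]; simp
      rw [if_neg hu, Finset.filter_notMem_eq_sdiff,
        Finset.card_sdiff_of_subset (Finset.subset_univ _), Finset.card_univ, hkF]
      have := hScard z (fun h => hu ((hSL z).2 h))
      omega
    have hdc : ∑ h : pairStab G a b, 2 * (Φ.filter fun A => h ∉ A).card =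
        ∑ A ∈ Φ, 2 * (Finset.univ.filter fun h => h ∉ A).card := by
      simp only [Finset.card_filter, Finset.mul_sum]
      exact Finset.sum_comm
    rw [Finset.sum_congr rfl fun h _ => hA h, Finset.sum_congr rfl hB] at hdc
    rw [← Finset.add_sum_erase _ _ (Finset.mem_univ (1 : pairStab G a b)), if_pos rfl,
      Finset.sum_congr rfl fun h hh => if_neg (Finset.ne_of_mem_erase hh),
      ← Finset.add_sum_erase _ _ huniv, if_pos rfl,
      Finset.sum_congr rfl fun A hA => if_neg (Finset.ne_of_mem_erase hA)] at hdc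
    simp only [Finset.sum_const, Finset.card_erase_of_mem (Finset.mem_univ _),
      Finset.card_erase_of_mem huniv, Finset.card_univ, hkF, smul_eq_mul, zero_add,
      Nat.sub_mul, one_mul, mul_comm k] at hdc
    have : 1 ≤ Φ.card := Finset.card_pos.2 ⟨_, huniv⟩
    have : k ≤ Φ.card * k := Nat.le_mul_of_pos_left _ (by omega)
    have : Φ.card ≤ Φ.card * k := Nat.le_mul_of_pos_right _ (by omega)
    omega
  -- a moving element and a point off `L`
  obtain ⟨z0, hz0⟩ : ∃ z, z ∉ L := by
    by_contra hc
    push_neg at hc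
    have hsub : Φ ⊆ {Finset.univ} := fun A hA => by
      obtain ⟨z, -, rfl⟩ := Finset.mem_image.1 hA
      exact Finset.mem_singleton.2 ((hSL z).2 (hc z))
    have := Finset.card_le_card hsub
    simp at this
    omega
  set m := (C (S z0)).card with hm
  have hn : Fintype.card Ω = 3 + (k - 1) * m := by
    rw [← Finset.card_univ (α := Ω), Finset.card_eq_sum_card_image S, ← hΦ,
      ← Finset.add_sum_erase _ _ huniv]
    congr 1
    · rw [← hF3]; congr 1; ext z; simp [hSL]
    · rw [Finset.sum_congr rfl fun A hA => ?_, Finset.sum_const, smul_eq_mul,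
        Finset.card_erase_of_mem huniv, hN]
      obtain ⟨z, -, rfl⟩ := Finset.mem_image.1 (Finset.mem_of_mem_erase hA)
      exact hCeq z z0 (fun h => Finset.ne_of_mem_erase hA ((hSL z).2 h)) hz0
  obtain ⟨hc, hca, hcb⟩ := third_spec hF hab
  set c := third G a b with hcdef
  have hLc : L = {a, b, c} := by
    ext z
    simp only [Finset.mem_insert, Finset.mem_singleton]
    refine ⟨mem_line_cases hF hab, ?_⟩
    rintro (rfl | rfl | rfl)
    exacts [left_mem_line _ _, right_mem_line _ _, hc]
  -- the four points of a class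
  have hfour : ∀ z, z ∉ L → ({z, third G a z, third G b z, third G c z} : Finset Ω) ⊆ C (S z) ∧
      ({z, third G a z, third G b z, third G c z} : Finset Ω).card = 4 := by
    intro z hz
    have hne : ∀ l ∈ L, l ≠ z := fun l hl e => hz (e ▸ hl)
    have hd : ∀ l ∈ L, ∀ l' ∈ L, l ≠ l' → third G l z ≠ third G l' z := by
      intro l hl l' hl' hll e
      obtain ⟨ht, ht1, ht2⟩ := third_spec hF (hne l hl)
      obtain ⟨ht', ht1', ht2'⟩ := third_spec hF (hne l' hl')
      have e1 := line_eq_of_mem h2 (hne l hl) (Ne.symm ht2) (right_mem_line l z) ht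
      have e2 := line_eq_of_mem h2 (hne l' hl') (Ne.symm ht2') (right_mem_line l' z) ht'
      rw [← e] at e2
      have hl'' : l' ∈ line G l z := by rw [← e1, e2]; exact left_mem_line l' z
      rcases mem_line_cases hF (hne l hl) hl'' with x | x | x
      · exact hll x.symm
      · exact hne l' hl' x
      · exact (hthL l hl z hz).1 (x ▸ hl')
    have ha := left_mem_line (G := G) a b
    have hb := right_mem_line (G := G) a b
    refine ⟨?_, ?_⟩
    · simp only [Finset.insert_subset_iff, Finset.singleton_subset_iff, memC]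
      exact ⟨trivial, (hthL a ha z hz).2, (hthL b hb z hz).2, (hthL c hc z hz).2⟩
    · simp [hd a ha b hb hab, hd a ha c hc (Ne.symm hca), hd b hb c hc (Ne.symm hcb),
        Ne.symm (third_spec hF (hne a ha)).2.2, Ne.symm (third_spec hF (hne b hb)).2.2,
        Ne.symm (third_spec hF (hne c hc)).2.2]
  have hmov : ∀ z, z ∉ L → ∃ h : pairStab G a b, (h : G) • z ≠ z := by
    intro z hz
    by_contra hh
    push_neg at hh
    exact hz ((hSL z).1 (Finset.eq_univ_iff_forall.2 fun h => memS.2 (hh h)))
  have hsmulC : ∀ z, z ∉ L → ∀ h : pairStab G a b, (h : G) • z ∉ L ∧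
      S ((h : G) • z) = S z := by
    intro z hz h
    have hL' : (h : G) • z ∉ L := fun e => hz (by
      have := hLfix _ e h h.2
      rwa [smul_left_cancel (h : G) this] at e)
    refine ⟨hL', ?_⟩
    by_cases hh : (h : G) • z = z
    · rw [hh]
    refine (Finset.eq_of_subset_of_card_le (fun g hg => ?_) ?_).symm
    · have hg' := memS.1 hg
      refine memS.2 ?_
      by_contra hgz
      have hh' : (h : G) • (h : G) • z ≠ (h : G) • z := fun e => hh (smul_left_cancel _ e)
      have e := smul_eq_of_index_two (horb _ hL') g.2 h.2 hgz hh'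
      rw [smul_smul_eq_of_index_two (horb z hz) h.2] at e
      have e2 : (g : G) • (h : G) • z = (g : G) • z := by rw [e, hg']
      exact hh (smul_left_cancel _ e2)
    · have := hScard z hz; have := hScard _ hL'; omega
  have hm4 : m = 4 := by
    obtain ⟨hsub, h4⟩ := hfour z0 hz0
    have hge : 4 ≤ m := h4 ▸ Finset.card_le_card hsub
    have hle : m ≤ 5 := by
      by_contra h6
      have : (k - 1) * 6 ≤ (k - 1) * m := Nat.mul_le_mul_left _ (by omega)
      omega
    obtain ⟨h, hh⟩ := hmov z0 hz0
    have hCL : ∀ w ∈ C (S z0), w ∉ L := fun w hw e =>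
      hz0 ((hSL z0).1 (by rw [← memC.1 hw, (hSL w).2 e]))
    have heven : ∑ _w ∈ C (S z0), (1 : ZMod 2) = 0 := by
      refine Finset.sum_involution (fun w _ => (h : G) • w) (fun _ _ => by decide)
        (fun w hw _ e => hh ?_) (fun w hw => ?_) (fun w hw => ?_)
      · have hw' : h ∈ S w := memS.2 e
        rw [memC.1 hw] at hw'
        exact memS.1 hw'
      · exact memC.2 ((hsmulC w (hCL w hw) h).2.trans (memC.1 hw))
      · exact smul_smul_eq_of_index_two (horb w (hCL w hw)) h.2
    rw [Finset.sum_const, nsmul_one, ← hm, ZMod.natCast_eq_zero_iff_even] at heven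
    obtain ⟨j, hj⟩ := heven
    omega
  -- the points whose line through `x` is stable
  let Ψ : Ω → Finset Ω := fun x =>
    Finset.univ.filter fun y => y ≠ x ∧ ∀ g ∈ pairStab G a b, g • y ∈ line G x y
  have memΨ : ∀ {x y}, y ∈ Ψ x ↔ y ≠ x ∧ ∀ g ∈ pairStab G a b, g • y ∈ line G x y :=
    fun {x y} => by simp [Ψ]
  have hcentre : ∀ z, z ∉ L → (L.filter fun x => z ∈ Ψ x).card = 1 := by
    intro z hz
    obtain ⟨hsub, h4⟩ := hfour z hz
    have hCz : C (S z) = {z, third G a z, third G b z, third G c z} :=
      (Finset.eq_of_subset_of_card_le hsub (by rw [h4, ← hm4, hm, hCeq z z0 hz hz0])).symm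
    obtain ⟨h, hh⟩ := hmov z hz
    have hmem : (h : G) • z ∈ C (S z) := memC.2 (hsmulC z hz h).2
    rw [hCz] at hmem
    simp only [Finset.mem_insert, Finset.mem_singleton] at hmem
    obtain ⟨l, hl, hlz⟩ : ∃ l ∈ L, (h : G) • z = third G l z := by
      rcases hmem with e | e | e | e
      · exact absurd e hh
      · exact ⟨a, left_mem_line a b, e⟩
      · exact ⟨b, right_mem_line a b, e⟩
      · exact ⟨c, hc, e⟩
    have hlne : l ≠ z := fun e => hz (e ▸ hl)
    rw [Finset.card_eq_one]
    refine ⟨l, ?_⟩
    ext x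
    simp only [Finset.mem_filter, Finset.mem_singleton, memΨ]
    constructor
    · rintro ⟨hx, hzx, hst⟩
      by_contra hxl
      rcases mem_line_cases hF (Ne.symm hzx) (hst h h.2) with e | e | e
      · exact (hsmulC z hz h).1 (e ▸ hx)
      · exact hh e
      · obtain ⟨ht, ht1, ht2⟩ := third_spec hF hlne
        obtain ⟨ht', ht1', ht2'⟩ := third_spec hF (Ne.symm hzx)
        have e1 := line_eq_of_mem h2 hlne (Ne.symm ht2) (right_mem_line l z) ht
        have e2 := line_eq_of_mem h2 (Ne.symm hzx) (Ne.symm ht2') (right_mem_line x z) ht'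
        rw [← e, hlz] at e2
        have hx' : x ∈ line G l z := by rw [← e1, e2]; exact left_mem_line x z
        rcases mem_line_cases hF hlne hx' with y | y | y
        · exact hxl y
        · exact hzx y.symm
        · exact (hthL l hl z hz).1 (y ▸ hx)
    · rintro rfl
      refine ⟨hl, Ne.symm hlne, fun g hg => ?_⟩
      by_cases hgz : g • z = z
      · rw [hgz]; exact right_mem_line x z
      · rw [smul_eq_of_index_two (horb z hz) hg h.2 hgz hh, hlz]
        exact (third_spec hF hlne).1
  have hsum : ∑ x ∈ L, (Ψ x).card = Fintype.card Ω + 3 := by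
    have h1 : ∀ x, (Ψ x).card = ∑ z : Ω, if z ∈ Ψ x then 1 else 0 := fun x => by
      rw [← Finset.card_filter, Finset.filter_univ_mem]
    rw [Finset.sum_congr rfl fun x _ => h1 x, Finset.sum_comm]
    simp only [← Finset.card_filter]
    have h3 : ∀ z, (L.filter fun x => z ∈ Ψ x).card = if z ∈ L then 2 else 1 := by
      intro z
      by_cases hz : z ∈ L
      · rw [if_pos hz]
        have : (L.filter fun x => z ∈ Ψ x) = L.erase z := by
          ext x
          simp only [Finset.mem_filter, Finset.mem_erase, memΨ]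
          refine ⟨fun h => ⟨h.2.1.symm, h.1⟩, fun h => ⟨h.2, Ne.symm h.1, fun g hg => ?_⟩⟩
          rw [hLfix z hz g hg]; exact right_mem_line x z
        rw [this, Finset.card_erase_of_mem hz, hF3]
      · rw [if_neg hz, hcentre z hz]
    simp only [h3]
    rw [Finset.sum_congr rfl fun (z : Ω) _ =>
      show (if z ∈ L then 2 else 1) = 1 + (if z ∈ L then 1 else 0) by split_ifs <;> rfl,
      Finset.sum_add_distrib, ← Finset.card_filter, Finset.filter_univ_mem]
    simp [hF3]
  have hsym : ∀ g : G, g • a ∈ L → g • b ∈ L → ∀ x ∈ L, (Ψ (g • x)).card = (Ψ x).card := by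
    intro g ga gb x hx
    have hK : pairStab G (g • a) (g • b) = pairStab G a b :=
      pairStab_eq_of_mem_line h2 hab (fun e => hab (smul_left_cancel g e)) ga gb
    symm
    refine Finset.card_bij (fun z _ => g • z) (fun z hz => ?_)
      (fun _ _ _ _ e => smul_left_cancel g e) (fun z hz => ⟨g⁻¹ • z, ?_, smul_inv_smul g z⟩)
    · refine memΨ.2 ⟨fun e => (memΨ.1 hz).1 (smul_left_cancel g e), fun k hk => ?_⟩
      have hk' : g⁻¹ * k * g ∈ pairStab G a b := by
        rw [← mem_pairStab_conj g, hK]; simpa [mul_assoc] using hk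
      have := (smul_mem_line g).2 ((memΨ.1 hz).2 _ hk')
      simpa [mul_smul] using this
    · refine memΨ.2 ⟨fun e => (memΨ.1 hz).1 (by rw [← e, smul_inv_smul]), fun k hk => ?_⟩
      have hk' : g * k * g⁻¹ ∈ pairStab G a b := hK ▸ (mem_pairStab_conj g k).2 hk
      rw [← smul_mem_line g, smul_inv_smul]
      simpa [mul_smul] using (memΨ.1 hz).2 _ hk'
  obtain ⟨g, ga, gb⟩ := h2 a b b c hab (Ne.symm hcb)
  have hΨ3 : 3 * (Ψ a).card = Fintype.card Ω + 3 := by
    have e1 := hsym g (ga ▸ right_mem_line a b) (gb ▸ hc) a (left_mem_line a b)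
    have e2 := hsym g (ga ▸ right_mem_line a b) (gb ▸ hc) b (right_mem_line a b)
    rw [ga] at e1; rw [gb] at e2
    rw [hLc, Finset.sum_insert (by simp [hab, Ne.symm hca]),
      Finset.sum_insert (by simp [Ne.symm hcb]), Finset.sum_singleton] at hsum
    omega
  -- stable lines correspond to the normaliser
  set T := lineStab h2 hab with hT
  have hKT : pairStab G a b ≤ T := pairStab_le_lineStab h2 hab
  have hconj : ∀ g : G, g • a = a → ∀ t, t ∈ T ↔ ((g * t * g⁻¹) • a = a ∧
      (g * t * g⁻¹) • (g • b) ∈ line G a (g • b)) := by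
    intro g hg t
    have hg' : g⁻¹ • a = a := by rw [inv_smul_eq_iff, hg]
    rw [hT, mem_lineStab]
    have e1 : (g * t * g⁻¹) • a = a ↔ t • a = a := by
      rw [mul_smul, mul_smul, hg', smul_eq_iff_eq_inv_smul, hg']
    have e2 : (g * t * g⁻¹) • (g • b) ∈ line G a (g • b) ↔ t • b ∈ line G a b := by
      rw [mul_smul, inv_smul_smul, mul_smul]
      conv_lhs => rw [← hg]
      exact smul_mem_line g
    rw [e1, e2]
  let N : Subgroup G := Subgroup.normalizer (T : Set G) ⊓ stabilizer G a
  have hKN : pairStab G a b ≤ N := fun g hg =>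
    ⟨Subgroup.le_normalizer (hKT hg), (mem_pairStab.1 hg).1⟩
  have horbN : ((orbit N b : Set Ω)) = (Ψ a : Set Ω) := by
    ext y
    rw [Finset.mem_coe, memΨ]
    constructor
    · rintro ⟨⟨g, hgN, hga⟩, rfl⟩
      refine ⟨fun e => hab (smul_left_cancel g (Eq.trans hga e.symm)), fun k hk => ?_⟩
      have h1 : g⁻¹ * k * g ∈ T := (Subgroup.mem_normalizer_iff''.1 hgN k).1 (hKT hk)
      have h3 := ((hconj g hga _).1 h1).2
      rw [show g * (g⁻¹ * k * g) * g⁻¹ = k by group] at h3
      exact h3
    · rintro ⟨hya, hst⟩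
      obtain ⟨g, hga, hgy⟩ := h2 a b a y hab (Ne.symm hya)
      set T' := lineStab h2 (Ne.symm hya) with hT'
      have hKT' : pairStab G a b ≤ T' := fun k hk =>
        (mem_lineStab h2 _).2 ⟨(mem_pairStab.1 hk).1, hst k hk⟩
      have hidx : ((pairStab G a b).subgroupOf T').index = 2 := by
        have h1 := Subgroup.card_mul_index ((pairStab G a b).subgroupOf T')
        rw [Nat.card_congr (Subgroup.subgroupOfEquivOfLe hKT').toEquiv, hT',
          card_lineStab h2 hF (Ne.symm hya), pairStab_card_eq h2 hab (Ne.symm hya), ← hT',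
          mul_comm 2] at h1
        exact Nat.eq_of_mul_eq_mul_left (by omega) h1
      have hle : T' ≤ T := by
        intro t ht
        refine (mem_lineStab h2 hab).2 ⟨((mem_lineStab h2 _).1 ht).1, mem_line.2 fun k hk => ?_⟩
        haveI := Subgroup.normal_of_index_eq_two hidx
        have h1 := Subgroup.Normal.conj_mem this (⟨k, hKT' hk⟩ : T') hk (⟨t, ht⟩⁻¹ : T')
        have h3 : (t⁻¹ * k * t⁻¹⁻¹) • b = b := (mem_pairStab.1 h1).2
        rw [inv_inv, mul_smul, mul_smul, inv_smul_eq_iff] at h3
        exact h3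
      have hTT : T' = T := Subgroup.eq_of_le_of_card_ge hle (by
        rw [hT, hT', card_lineStab h2 hF hab, card_lineStab h2 hF (Ne.symm hya),
          pairStab_card_eq h2 hab (Ne.symm hya)])
      refine ⟨⟨g, ?_, hga⟩, hgy⟩
      refine Subgroup.mem_normalizer_iff.2 fun t => ?_
      rw [hconj g hga t, hgy, ← mem_lineStab h2 (Ne.symm hya), ← hT', hTT]
  have hdiv : (Ψ a).card ∣ Fintype.card Ω - 1 := by
    have h1 := Subgroup.card_mul_index (stabilizer N b)
    have hst : Nat.card (stabilizer N b) = k :=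
      Nat.card_congr
        { toFun := fun x => ⟨x.1.1, mem_pairStab.2 ⟨x.1.2.2, x.2⟩⟩
          invFun := fun x => ⟨⟨x.1, hKN x.2⟩, (mem_pairStab.1 x.2).2⟩
          left_inv := fun x => rfl
          right_inv := fun x => rfl }
    rw [MulAction.index_stabilizer, horbN, Set.ncard_coe_finset, hst] at h1
    have h3 := Subgroup.card_mul_index (stabilizer (stabilizer G a) b)
    have hst' : Nat.card (stabilizer (stabilizer G a) b) = k :=
      Nat.card_congr
        { toFun := fun x => ⟨x.1.1, mem_pairStab.2 ⟨x.1.2, x.2⟩⟩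
          invFun := fun x => ⟨⟨x.1, (mem_pairStab.1 x.2).1⟩, (mem_pairStab.1 x.2).2⟩
          left_inv := fun x => rfl
          right_inv := fun x => rfl }
    have horba : orbit (stabilizer G a) b = {a}ᶜ := by
      ext z
      simp only [Set.mem_compl_iff, Set.mem_singleton_iff]
      constructor
      · rintro ⟨⟨g, hg⟩, rfl⟩ e
        exact hab (smul_left_cancel g ((mem_stabilizer_iff.1 hg).trans e.symm))
      · intro hz
        obtain ⟨g, g1, g2⟩ := h2 a b a z hab (Ne.symm hz)
        exact ⟨⟨g, g1⟩, g2⟩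
    rw [MulAction.index_stabilizer, horba, Set.ncard_compl, Set.ncard_singleton,
      Nat.card_eq_fintype_card (α := Ω), hst'] at h3
    have := Subgroup.card_dvd_of_le (inf_le_right : N ≤ stabilizer G a)
    rw [← h1, ← h3] at this
    exact (Nat.mul_dvd_mul_iff_left (by omega)).1 this
  obtain ⟨q, hq⟩ := hdiv
  rw [hm4] at hn
  rcases q with _ | _ | _ | q
  · omega
  · omega
  · omega
  · have : (Ψ a).card * 3 ≤ (Ψ a).card * (q + 1 + 1 + 1) := Nat.mul_le_mul_left _ (by omega)
    omega

end Cfsg.Agent.DerangeTwo
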